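import Mathlib
import Cfsg.Agent.Lib.Helper95.Fix2.Defs
import Cfsg.Agent.S3224

/-!
# S3390 (project FIX2, helper95): assembly from the packages
-/

set_option autoImplicit false

namespace Cfsg.Agent.Lib.Helper95.Fix2

universe u v

/-- Fixity at most two in the elementwise form. -/
theorem fix2On_top {G : Type u} [Group G] {Ω : Type v} [Fintype Ω] [MulAction G Ω]
    (hfix : ∀ g : G, g ≠ 1 → Nat.card (MulAction.fixedBy Ω g) ≤ 2) :
    Fix2On Ω (⊤ : Subgroup G) := by
  intro g _ hg a b c ha hb hc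
  by_contra hne
  push Not at hne
  obtain ⟨hab, hac, hbc⟩ := hne
  have hsub : ({a, b, c} : Set Ω) ⊆ MulAction.fixedBy Ω g := by
    intro w hw
    rcases hw with rfl | rfl | rfl
    · exact ha
    · exact hb
    · exact hc
  have h3 : ({a, b, c} : Set Ω).ncard = 3 := Set.ncard_eq_three.mpr ⟨a, b, c, hab, hac, hbc, rfl⟩
  have hle := Set.ncard_le_ncard hsub (Set.toFinite _)
  have h2 := hfix g hg
  rw [Nat.card_coe_set_eq] at h2
  omega

/-- The assembly of S3390 from the packages. -/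
theorem s3390_of (hLoc : PkgLoc.{u, v}) (hB : PkgB.{u, v}) (hA1 : PkgA1.{u, v}) (hV4 : PkgV4.{u})
    (hOrb : PkgOrb.{u, v}) (hTr : PkgTr.{u}) (hA2N : PkgA2N.{u, v}) (hFrob : PkgFrob.{u, v})
    {G : Type u} [Group G] [Finite G] {Ω : Type v} [Fintype Ω] [MulAction G Ω] [FaithfulSMul G Ω]
    (htr : MulAction.IsPretransitive G Ω)
    (hfix : ∀ g : G, g ≠ 1 → Nat.card (MulAction.fixedBy Ω g) ≤ 2) (α : Ω) (S : Sylow 2 G) :
    (S : Subgroup G) ⊓ MulAction.stabilizer G α = ⊥ ∨
    (((∃ n : ℕ, Nonempty (↥(S : Subgroup G) ≃* DihedralGroup n)) ∨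
        Cfsg.IsQuasiDihedral ↥(S : Subgroup G)) ∧
       (Nat.card ↥((S : Subgroup G) ⊓ MulAction.stabilizer G α) = 2 ∨
        ((S : Subgroup G) ⊓ MulAction.stabilizer G α).relIndex (S : Subgroup G) = 2)) ∨
    (4 ≤ Nat.card (S : Subgroup G) ∧
       (∃ ω : Ω, Nat.card (MulAction.orbit ↥(S : Subgroup G) ω) = 2 ∧
          ∀ ω' : Ω, ω' ∉ MulAction.orbit ↥(S : Subgroup G) ω →
            Nat.card (MulAction.orbit ↥(S : Subgroup G) ω') = Nat.card (S : Subgroup G)) ∧
       ∃ N : Subgroup G, N.Normal ∧ (N.index = 2 ∨ N.index = Nat.card (S : Subgroup G)) ∧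
        (∃ H : Subgroup ↥N, Cfsg.IsFrobeniusComplement H)) ∨
    (S : Subgroup G) ≤ MulAction.stabilizer G α := by
  classical
  by_cases h1 : (S : Subgroup G) ⊓ MulAction.stabilizer G α = ⊥
  · exact Or.inl h1
  by_cases h2 : (S : Subgroup G) ≤ MulAction.stabilizer G α
  · exact Or.inr (Or.inr (Or.inr h2))
  have f2 : Fix2On Ω (⊤ : Subgroup G) := fix2On_top hfix
  have f2S : Fix2On Ω (S : Subgroup G) := fun g _ => f2 g (Subgroup.mem_top g)
  have hp : IsPGroup 2 ↥(S : Subgroup G) := S.isPGroup'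
  obtain ⟨β, t, L⟩ := hLoc (S : Subgroup G) α hp f2S h1 h2
  by_cases hcB : ∃ s ∈ (S : Subgroup G), s • α ≠ α ∧ s • α ≠ β
  · -- case (B)
    obtain ⟨hcard, x, hx, hC, h4⟩ := hB (S : Subgroup G) α β t hp f2S h1 L hcB
    refine Or.inr (Or.inl ⟨?_, Or.inl hcard⟩)
    rcases Cfsg.Agent.S3224.result hp x hx hC with h | h | h
    · exact Or.inl h
    · exact Or.inr h
    · omega
  · -- case (A)
    have hcA : ∀ s ∈ (S : Subgroup G), s • α = α ∨ s • α = β := by
      intro s hs
      by_contra hne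
      push Not at hne
      exact hcB ⟨s, hs, hne.1, hne.2⟩
    obtain ⟨hrel, h4le, horb2, horbreg⟩ := hOrb (S : Subgroup G) α β t h1 L hcA
    by_cases hcA1 : ∃ ω : Ω, ω ≠ α ∧ ω ≠ β ∧ ∃ s ∈ (S : Subgroup G), s ≠ 1 ∧ s • ω = ω
    · -- case (A1)
      obtain ⟨x, hx, hC, h4⟩ := hA1 (S : Subgroup G) α β t hp f2S h1 L hcA hcA1
      refine Or.inr (Or.inl ⟨?_, Or.inr hrel⟩)
      rcases Cfsg.Agent.S3224.result hp x hx hC with h | h | h
      · exact Or.inl h
      · exact Or.inr h
      · obtain ⟨y, hy, hyx⟩ := h4 h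
        exact Or.inl ⟨2, hV4 h x y hx hy hyx⟩
    · -- case (A2)
      have hsemi : ∀ ω : Ω, ω ≠ α → ω ≠ β → ∀ s ∈ (S : Subgroup G), s • ω = ω → s = 1 := by
        intro ω hωα hωβ s hs hsω
        by_contra hs1
        exact hcA1 ⟨ω, hωα, hωβ, s, hs, hs1, hsω⟩
      -- elements of `S` moving `α` swap `α` and `β` and have no fixed point
      have hswap : ∀ s ∈ (S : Subgroup G), s • α = β → s • β = α := by
        intro s hs hsα
        have h3 : (t⁻¹ * s) • α = α := by
          rw [mul_smul, hsα, ← L.tα, inv_smul_smul]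
        have h4 := L.ab (t⁻¹ * s) (Subgroup.mul_mem _ (Subgroup.inv_mem _ L.tS) hs) h3
        rw [mul_smul, inv_smul_eq_iff, L.tβ] at h4
        exact h4
      have hfpf : ∀ s ∈ (S : Subgroup G), s • α = β → ∀ ω : Ω, s • ω ≠ ω := by
        intro s hs hsα ω hsω
        have hs1 : s ≠ 1 := by
          rintro rfl
          rw [one_smul] at hsα
          exact L.ne hsα.symm
        by_cases hωα : ω = α
        · rw [hωα, hsα] at hsω
          exact L.ne hsω
        by_cases hωβ : ω = β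
        · rw [hωβ, hswap s hs hsα] at hsω
          exact L.ne hsω.symm
        exact hs1 (hsemi ω hωα hωβ s hs hsω)
      have hodd : Odd (S : Subgroup G).index := by
        have : Fact (Nat.Prime 2) := ⟨Nat.prime_two⟩
        exact Nat.not_even_iff_odd.mp (fun he => S.not_dvd_index (even_iff_two_dvd.mp he))
      obtain ⟨N, hN, hNidx, hNfix, htN⟩ := hA2N hTr (S : Subgroup G) α β t hodd L hcA hfpf
      -- a non-identity element of `T`
      have hT : ∃ x ∈ (S : Subgroup G), x ≠ 1 ∧ x • α = α := by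
        by_contra hno
        push Not at hno
        apply h1
        rw [eq_bot_iff]
        intro x hx
        rw [Subgroup.mem_bot]
        by_contra hx1
        exact hno x hx.1 hx1 (MulAction.mem_stabilizer_iff.mp hx.2)
      obtain ⟨x, hxS, hx1, hxα⟩ := hT
      have hthird : ∃ ω : Ω, ω ≠ α ∧ ω ≠ β := by
        by_contra hno
        push Not at hno
        apply hx1
        apply FaithfulSMul.eq_of_smul_eq_smul (α := Ω)
        intro ω
        rw [one_smul]
        by_cases hωα : ω = α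
        · rw [hωα]; exact hxα
        · rw [hno ω hωα]; exact L.ab x hxS hxα
      have hST : ∀ y ∈ (S : Subgroup G), y ≠ 1 → (∃ ω : Ω, y • ω = ω) →
          y • α = α ∧ y • β = β := by
        intro y hy _ hfixed
        obtain ⟨ω, hω⟩ := hfixed
        rcases hcA y hy with h | h
        · exact ⟨h, L.ab y hy h⟩
        · exact absurd hω (hfpf y hy h ω)
      refine Or.inr (Or.inr (Or.inl ⟨h4le, ⟨α, horb2, horbreg hsemi⟩, N, hN, Or.inl hNidx, ?_⟩))
      exact hFrob S N α β t htr f2 hN hNidx hNfix htN L.tα hthird ⟨x, hxS, hx1, hxα⟩ hST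

end Cfsg.Agent.Lib.Helper95.Fix2
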