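import Mathlib
import Cfsg.Agent.Lib.Helper95.Fix2.Defs
import Cfsg.Agent.S3224

/-!
# S3390 (project FIX2), package [V4] (helper95): a group of order 4 with two distinct involutions
is `DihedralGroup 2`.
-/

set_option autoImplicit false

namespace Cfsg.Agent.Lib.Helper95.Fix2

universe u

/-- **[V4]** -/
theorem pkgV4 : PkgV4.{u} := by
  intro S _ _ h4 x y hx hy hyx
  have hx2 : x ^ 2 = 1 := by rw [← hx]; exact pow_orderOf_eq_one x
  have hy2 : y ^ 2 = 1 := by rw [← hy]; exact pow_orderOf_eq_one y
  have hx1 : x ≠ 1 := by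
    rintro rfl
    rw [orderOf_one] at hx
    omega
  have hy1 : y ≠ 1 := by
    rintro rfl
    rw [orderOf_one] at hy
    omega
  have hsq : ∀ g : S, g ^ 2 = 1 := by
    intro g
    have hdvd : orderOf g ∣ 4 := h4 ▸ orderOf_dvd_natCard g
    have hle : orderOf g ≤ 4 := Nat.le_of_dvd (by norm_num) hdvd
    have hpos : 0 < orderOf g := orderOf_pos g
    have hcases : orderOf g = 1 ∨ orderOf g = 2 ∨ orderOf g = 4 := by
      interval_cases h : orderOf g
      · exact Or.inl rfl
      · exact Or.inr (Or.inl rfl)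
      · exfalso; revert hdvd; decide
      · exact Or.inr (Or.inr rfl)
    rcases hcases with h | h | h
    · rw [orderOf_eq_one_iff.mp h, one_pow]
    · rw [← h]; exact pow_orderOf_eq_one g
    · exfalso
      have htop : Subgroup.zpowers g = ⊤ := by
        apply Subgroup.eq_top_of_card_eq
        rw [Nat.card_zpowers, h, h4]
      have hxm : x ∈ Subgroup.zpowers g := htop ▸ Subgroup.mem_top x
      have hym : y ∈ Subgroup.zpowers g := htop ▸ Subgroup.mem_top y
      have hg4 : orderOf g = 2 * 2 := h
      rcases Cfsg.Agent.S3224.eq_one_or_eq_pow_of_sq hg4 hxm hx2 with h5 | h5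
      · exact hx1 h5
      rcases Cfsg.Agent.S3224.eq_one_or_eq_pow_of_sq hg4 hym hy2 with h6 | h6
      · exact hy1 h6
      exact hyx (h6.trans h5.symm)
  have hexp : Monoid.exponent S = 2 := by
    have hd : Monoid.exponent S ∣ 2 := Monoid.exponent_dvd_of_forall_pow_eq_one hsq
    have hne : Monoid.exponent S ≠ 1 := by
      intro h
      have hsub : Subsingleton S := Monoid.exp_eq_one_iff.mp h
      exact hx1 (Subsingleton.elim x 1)
    rcases (Nat.dvd_prime Nat.prime_two).mp hd with h | h
    · exact absurd h hne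
    · exact h
  have : IsKleinFour S := ⟨h4, hexp⟩
  exact IsKleinFour.nonempty_mulEquiv

end Cfsg.Agent.Lib.Helper95.Fix2
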